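import Groth.Agent.Rat23.StalkAlg
import Groth.Agent.An92.Rat.SectionExt
import Groth.Agent.An92.Rat.SchDenseOps
import Groth.Agent.SGA3a.SchemDense
import Groth.Agent.S3843

/-!
# A pseudo-morphism is defined where it is defined on the local scheme
-/

set_option autoImplicit false
set_option linter.style.haveILetI false

universe u

open CategoryTheory AlgebraicGeometry TopologicalSpace IsLocalRing

namespace Groth.Agent.Rat23

/-- Preimages of schematically dense opens under open immersions are schematically dense. -/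
theorem schDense_preimage_openImm {X X' : Scheme.{u}} (μ : X' ⟶ X) [IsOpenImmersion μ] {V : X.Opens}
    (hV : CInt.IsSchematicallyDense V) : CInt.IsSchematicallyDense (μ ⁻¹ᵁ V) :=
  Groth.Agent.S3843.result μ V hV

theorem mem_preimage_of_comp {Z P Q : Scheme.{u}} (a : Z ⟶ P) (b : P ⟶ Q) (U : Q.Opens)
    (c : Z ⟶ (U : Scheme.{u})) (h : c ≫ U.ι = a ≫ b) : Set.range a ⊆ Set.range (b ⁻¹ᵁ U).ι := by
  rintro _ ⟨z, rfl⟩
  rw [Scheme.Opens.range_ι]
  show b (a z) ∈ U
  have e := congrArg (fun m : Z ⟶ Q => m z) h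
  simp only [Scheme.Hom.comp_apply] at e
  rw [← e]
  exact (c z).2

variable {A : Type u} [CommRing A] {X Y S : Scheme.{u}}

/-- The affine case: a pseudo-morphism defined on the local ring of `p` is defined near `p`. -/
theorem exists_extension_affine (pX : X ⟶ S) (pY : Y ⟶ S) [IsSeparated pY]
    (j : Spec (CommRingCat.of A) ⟶ X) [IsOpenImmersion j] {T : S.Opens} (hT : IsAffineOpen T)
    {VY : Y.Opens} (hVY : IsAffineOpen VY) (hVT : VY ≤ pY ⁻¹ᵁ T)
    (hfp : (pY.appLE T VY hVT).hom.FinitePresentation)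
    (hjT : Set.range (j ≫ pX) ⊆ (T : Set S)) (U : X.Opens) (h : (U : Scheme.{u}) ⟶ Y)
    (hh : h ≫ pY = U.ι ≫ pX) (p : PrimeSpectrum A) (O : Type u) [CommRing O] [Algebra A O]
    [IsLocalization.AtPrime O p.asIdeal] [IsLocalRing O] (w : Spec (CommRingCat.of O) ⟶ Y)
    (hw : w ≫ pY = Spec.map (CommRingCat.ofHom (algebraMap A O)) ≫ j ≫ pX)
    (hwV : w (closedPoint O) ∈ VY)
    (hwh : ∀ (Z : Scheme.{u}) (a : Z ⟶ Spec (CommRingCat.of O)) (b : Z ⟶ (U : Scheme.{u})),
      a ≫ Spec.map (CommRingCat.ofHom (algebraMap A O)) ≫ j = b ≫ U.ι → a ≫ w = b ≫ h)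
    (t : A) (ht : t ∈ nonZeroDivisors A)
    (htU : ∀ q : PrimeSpectrum A, t ∉ q.asIdeal → j q ∈ U) :
    ∃ (V : X.Opens) (v : (V : Scheme.{u}) ⟶ Y), j p ∈ V ∧ v ≫ pY = V.ι ≫ pX ∧
      X.homOfLE (inf_le_right : U ⊓ V ≤ V) ≫ v = X.homOfLE (inf_le_left : U ⊓ V ≤ U) ≫ h := by
  classical
  -- the ring homomorphism of the base
  let jA : Γ(S, T) ⟶ CommRingCat.of A := (An92.Rat.exists_specMap hT (j ≫ pX) hjT).choose
  have hjA : j ≫ pX = Spec.map jA ≫ hT.fromSpec := (An92.Rat.exists_specMap hT (j ≫ pX) hjT).choose_spec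
  algebraize [(pY.appLE T VY hVT).hom]
  letI : Algebra Γ(S, T) A := jA.hom.toAlgebra
  have hstr : Spec.map (pY.appLE T VY hVT) ≫ hT.fromSpec = hVY.fromSpec ≫ pY :=
    IsAffineOpen.SpecMap_appLE_fromSpec pY hT hVY hVT
  -- homomorphisms into `Y` over `S` are algebra homomorphisms
  have key : ∀ (N : Type u) [CommRing N] [Algebra A N] [Algebra Γ(S, T) N] [IsScalarTower Γ(S, T) A N]
      (m : Spec (CommRingCat.of N) ⟶ Y),
      m ≫ pY = Spec.map (CommRingCat.ofHom (algebraMap A N)) ≫ j ≫ pX → Set.range m ⊆ (VY : Set Y) →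
      ∃ β : Γ(Y, VY) →ₐ[Γ(S, T)] N, m = Spec.map (CommRingCat.ofHom β.toRingHom) ≫ hVY.fromSpec := by
    intro N _ _ _ _ m hm hmr
    obtain ⟨φ, hφ⟩ := An92.Rat.exists_specMap hVY m hmr
    have h1 : pY.appLE T VY hVT ≫ φ = jA ≫ CommRingCat.ofHom (algebraMap A N) := by
      apply An92.Rat.specMap_fromSpec_injective hT
      rw [Spec.map_comp, Spec.map_comp, Category.assoc, Category.assoc, hstr, ← Category.assoc, ← hφ,
        hm, ← hjA]
    refine ⟨{ φ.hom with commutes' := fun r => ?_ }, ?_⟩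
    · show φ.hom (pY.appLE T VY hVT r) = _
      rw [IsScalarTower.algebraMap_apply Γ(S, T) A N]
      exact ConcreteCategory.congr_hom h1 r
    · rw [hφ]
      rfl
  haveI : Algebra.FinitePresentation Γ(S, T) Γ(Y, VY) := hfp
  haveI : Algebra.FiniteType Γ(S, T) Γ(Y, VY) := inferInstance
  letI : Algebra Γ(S, T) O := ((algebraMap A O).comp (algebraMap Γ(S, T) A)).toAlgebra
  haveI : IsScalarTower Γ(S, T) A O := IsScalarTower.of_algebraMap_eq fun _ => rfl
  have hwr : Set.range w ⊆ (VY : Set Y) := An92.Rat.range_subset_of_closedPoint_mem w VY hwV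
  obtain ⟨φw, hφw⟩ := key O w hw hwr
  obtain ⟨s, hs, ψ, g, hg⟩ := exists_lift_away p.asIdeal φw
  -- the localization at the prime and at `t`
  let M : Submonoid A := p.asIdeal.primeCompl ⊔ Submonoid.powers t
  let L := Localization M
  have huO : ∀ y : p.asIdeal.primeCompl, IsUnit (algebraMap A L y) := fun y =>
    IsLocalization.map_units L (⟨y, Submonoid.mem_sup_left y.2⟩ : M)
  let gO : O →+* L := IsLocalization.lift (M := p.asIdeal.primeCompl) huO
  have hut : IsUnit (algebraMap A L t) :=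
    IsLocalization.map_units L (⟨t, Submonoid.mem_sup_right (Submonoid.mem_powers t)⟩ : M)
  let Nt := Localization.Away t
  let gt : Nt →+* L := IsLocalization.Away.lift t hut
  -- `h` on `Spec A_t`
  let ut : Spec (CommRingCat.of Nt) ⟶ X := Spec.map (CommRingCat.ofHom (algebraMap A Nt)) ≫ j
  have hut' : Set.range ut ⊆ Set.range U.ι := by
    rintro _ ⟨q, rfl⟩
    rw [Scheme.Opens.range_ι]
    refine htU _ fun hq => ?_
    exact q.isPrime.ne_top ((Ideal.eq_top_of_isUnit_mem _ hq (IsLocalization.Away.algebraMap_isUnit t)))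
  let kt : Spec (CommRingCat.of Nt) ⟶ (U : Scheme.{u}) := IsOpenImmersion.lift U.ι ut hut'
  have hkt : kt ≫ U.ι = ut := IsOpenImmersion.lift_fac _ _ _
  have hgt : gt.comp (algebraMap A Nt) = algebraMap A L := IsLocalization.Away.lift_comp t hut
  have hgO : gO.comp (algebraMap A O) = algebraMap A L :=
    IsLocalization.lift_comp huO
  have hL : Spec.map (CommRingCat.ofHom gO) ≫ w = (Spec.map (CommRingCat.ofHom gt) ≫ kt) ≫ h := by
    refine hwh _ _ _ ?_
    rw [Category.assoc, hkt, ← Category.assoc, ← Category.assoc, ← Spec.map_comp, ← Spec.map_comp,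
      ← CommRingCat.ofHom_comp, ← CommRingCat.ofHom_comp, hgt, hgO]
  -- the locus where `h` lands in the chart
  let E : Set (PrimeSpectrum Nt) := {q | (kt ≫ h) q ∈ VY}
  have hE : IsOpen E := VY.isOpen.preimage (kt ≫ h).continuous
  obtain ⟨c, hcM, hcE⟩ := exists_forall_mem_of_localization M t gt hgt E hE fun q => by
    show (kt ≫ h) (Spec.map (CommRingCat.ofHom gt) q) ∈ VY
    have e : w (Spec.map (CommRingCat.ofHom gO) q) = (kt ≫ h) (Spec.map (CommRingCat.ofHom gt) q) :=
      congrArg (fun m : Spec (CommRingCat.of L) ⟶ Y => m q) hL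
    rw [← e]
    exact hwr ⟨_, rfl⟩
  obtain ⟨s', hs', c', hc', rfl⟩ := Submonoid.mem_sup.1 hcM
  obtain ⟨i, rfl⟩ := hc'
  -- both homomorphisms on `Spec A_(t s s')`
  let r₀ := t * (s * s')
  let N := Localization.Away r₀
  have huN : IsUnit (algebraMap A N r₀) := IsLocalization.Away.algebraMap_isUnit r₀
  simp only [r₀, map_mul, IsUnit.mul_iff] at huN
  let kNt : Nt →+* N := IsLocalization.Away.lift t huN.1
  let kNs : Localization.Away s →+* N := IsLocalization.Away.lift s huN.2.1
  have hkNt : kNt.comp (algebraMap A Nt) = algebraMap A N := IsLocalization.Away.lift_comp t huN.1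
  have hkNs : kNs.comp (algebraMap A _) = algebraMap A N := IsLocalization.Away.lift_comp s huN.2.1
  let mh : Spec (CommRingCat.of N) ⟶ Y := Spec.map (CommRingCat.ofHom kNt) ≫ kt ≫ h
  have hmh : mh ≫ pY = Spec.map (CommRingCat.ofHom (algebraMap A N)) ≫ j ≫ pX := by
    simp only [mh, Category.assoc, hh]
    rw [← Category.assoc kt, hkt]
    simp only [ut, Category.assoc]
    rw [← Category.assoc, ← Spec.map_comp, ← CommRingCat.ofHom_comp, hkNt]
  have hmhr : Set.range mh ⊆ (VY : Set Y) := by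
    rintro _ ⟨q, rfl⟩
    refine hcE (Spec.map (CommRingCat.ofHom kNt) q) fun hq => q.isPrime.ne_top ?_
    refine Ideal.eq_top_of_isUnit_mem _ hq ?_
    show IsUnit ((kNt.comp (algebraMap A Nt)) (s' * t ^ i))
    rw [hkNt, map_mul, map_pow]
    exact huN.2.2.mul (huN.1.pow i)
  obtain ⟨βh, hβh⟩ := key N mh hmh hmhr
  let βv : Γ(Y, VY) →ₐ[Γ(S, T)] N :=
    { kNs.comp ψ.toRingHom with
      commutes' := fun r => by
        show kNs (ψ (algebraMap Γ(S, T) Γ(Y, VY) r)) = _
        rw [ψ.commutes, IsScalarTower.algebraMap_apply Γ(S, T) A (Localization.Away s)]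
        exact RingHom.congr_fun hkNs _ }
  have huL : IsUnit (algebraMap A L r₀) := by
    simp only [r₀, map_mul, IsUnit.mul_iff]
    exact ⟨hut, IsLocalization.map_units L (⟨s, Submonoid.mem_sup_left hs⟩ : M),
      IsLocalization.map_units L (⟨s', Submonoid.mem_sup_left hs'⟩ : M)⟩
  let gN : N →ₐ[A] L :=
    { IsLocalization.Away.lift (S := N) r₀ (g := algebraMap A L) huL with
      commutes' := fun x => IsLocalization.Away.lift_eq r₀ _ x }
  have hgN : gN.toRingHom.comp (algebraMap A N) = algebraMap A L := gN.comp_algebraMap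
  have hgg : g.toRingHom.comp (algebraMap A _) = algebraMap A O := g.comp_algebraMap
  have hgNt : gN.toRingHom.comp kNt = gt := IsLocalization.ringHom_ext (Submonoid.powers t) (by
    rw [RingHom.comp_assoc, hkNt, hgt, hgN])
  have hgNs : gN.toRingHom.comp kNs = gO.comp g.toRingHom :=
    IsLocalization.ringHom_ext (Submonoid.powers s) (by
      rw [RingHom.comp_assoc, hkNs, hgN, RingHom.comp_assoc, hgg, hgO])
  have hβ : ∀ b, gN (βh b) = gN (βv b) := by
    intro b
    have h1 : Spec.map (CommRingCat.ofHom (gN.toRingHom.comp βh.toRingHom)) ≫ hVY.fromSpec =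
        Spec.map (CommRingCat.ofHom (gO.comp φw.toRingHom)) ≫ hVY.fromSpec := by
      rw [CommRingCat.ofHom_comp, CommRingCat.ofHom_comp, Spec.map_comp, Spec.map_comp,
        Category.assoc, Category.assoc, ← hβh, ← hφw, hL]
      simp only [mh]
      rw [← Category.assoc, ← Spec.map_comp, ← CommRingCat.ofHom_comp, hgNt, Category.assoc]
    have h2 := ConcreteCategory.congr_hom (An92.Rat.specMap_fromSpec_injective hVY h1) b
    refine (show gN (βh b) = gO (φw b) from h2).trans ?_
    rw [← hg b]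
    exact (RingHom.congr_fun hgNs (ψ b)).symm
  obtain ⟨c, hcM, hc⟩ := exists_forall_mul_sub_eq_zero M r₀ gN βh βv hβ
  obtain ⟨s₂, hs₂, c', hc', rfl⟩ := Submonoid.mem_sup.1 hcM
  obtain ⟨i₂, rfl⟩ := hc'
  -- the neighbourhood
  let r := s * s' * s₂
  have hr : r ∉ p.asIdeal := mul_mem (mul_mem (show s ∈ p.asIdeal.primeCompl from hs) hs') hs₂
  let Ar := Localization.Away r
  have huA : IsUnit (algebraMap A Ar r) := IsLocalization.Away.algebraMap_isUnit r
  simp only [r, map_mul, IsUnit.mul_iff] at huA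
  let kAs : Localization.Away s →+* Ar := IsLocalization.Away.lift s huA.1.1
  have hkAs : kAs.comp (algebraMap A _) = algebraMap A Ar := IsLocalization.Away.lift_comp s huA.1.1
  let vr : Spec (CommRingCat.of Ar) ⟶ Y :=
    Spec.map (CommRingCat.ofHom (kAs.comp ψ.toRingHom)) ≫ hVY.fromSpec
  haveI : IsOpenImmersion (Spec.map (CommRingCat.ofHom (algebraMap A Ar))) :=
    IsOpenImmersion.of_isLocalization r
  let μ : Spec (CommRingCat.of Ar) ⟶ X := Spec.map (CommRingCat.ofHom (algebraMap A Ar)) ≫ j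
  haveI : IsOpenImmersion μ := inferInstanceAs (IsOpenImmersion (_ ≫ _))
  have hvr : vr ≫ pY = μ ≫ pX := by
    have e : pY.appLE T VY hVT ≫ CommRingCat.ofHom (kAs.comp ψ.toRingHom) =
        jA ≫ CommRingCat.ofHom (algebraMap A Ar) := by
      ext b
      show kAs (ψ (algebraMap Γ(S, T) Γ(Y, VY) b)) = algebraMap A Ar (algebraMap Γ(S, T) A b)
      rw [ψ.commutes, IsScalarTower.algebraMap_apply Γ(S, T) A (Localization.Away s)]
      exact RingHom.congr_fun hkAs _
    simp only [vr, μ, Category.assoc, ← hstr, hjA]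
    rw [← Category.assoc, ← Spec.map_comp, e, Spec.map_comp, Category.assoc]
  have hp : j p ∈ μ.opensRange := by
    have hp' : p ∈ Set.range (Spec.map (CommRingCat.ofHom (algebraMap A Ar))) := by
      show p ∈ Set.range (PrimeSpectrum.comap (algebraMap A Ar))
      rw [PrimeSpectrum.localization_away_comap_range Ar r]
      exact hr
    obtain ⟨q, hq⟩ := hp'
    exact ⟨q, (Scheme.Hom.comp_apply _ _ q).trans (congrArg j hq)⟩
  -- agreement on `μ⁻¹ U`
  let Q : (Spec (CommRingCat.of Ar)).Opens := μ ⁻¹ᵁ U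
  have hQ : Q.ι ≫ vr = (μ ∣_ U) ≫ h := by
    let D : (Spec (CommRingCat.of Ar)).Opens := PrimeSpectrum.basicOpen (algebraMap A Ar t)
    have hD : CInt.IsSchematicallyDense D := by
      have h1 := An92.Rat.schDense_basicOpen_of_nzd (X := Spec (CommRingCat.of Ar))
        ((Scheme.ΓSpecIso (CommRingCat.of Ar)).inv (algebraMap A Ar t)) ?_
      · rwa [basicOpen_eq_of_affine] at h1
      · have hnzd : algebraMap A Ar t ∈ nonZeroDivisors Ar :=
          IsLocalization.map_nonZeroDivisors_le (Submonoid.powers r) Ar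
            ⟨t, ht, rfl⟩
        let e := (Scheme.ΓSpecIso (CommRingCat.of Ar)).commRingCatIsoToRingEquiv
        rw [mem_nonZeroDivisors_iff_right]
        intro x hx
        refine e.injective ?_
        have h2 : e x * algebraMap A Ar t = 0 := by
          rw [show algebraMap A Ar t = e (e.symm (algebraMap A Ar t)) from (e.apply_symm_apply _).symm,
            ← map_mul]
          exact (congrArg e hx).trans (map_zero e)
        rw [map_zero]
        exact (mem_nonZeroDivisors_iff_right.1 hnzd) _ h2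
    refine Groth.Agent.SGA3a.eq_of_eqOn_schemDense pY _ (schDense_preimage_openImm Q.ι hD) _ _ ?_ ?_
    · exact (Category.assoc _ _ _).trans (((congrArg (Q.ι ≫ ·) hvr).trans
        (morphismRestrict_ι_assoc μ U pX).symm).trans
        ((congrArg ((μ ∣_ U) ≫ ·) hh.symm).trans (Category.assoc _ _ _).symm))
    · -- on `D(t)`
      let N' := Localization.Away (algebraMap A Ar t)
      haveI : IsOpenImmersion (Spec.map (CommRingCat.ofHom (algebraMap Ar N'))) :=
        IsOpenImmersion.of_isLocalization (algebraMap A Ar t)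
      let f' : A →+* N' := (algebraMap Ar N').comp (algebraMap A Ar)
      have hut2 : IsUnit (f' t) := IsLocalization.Away.algebraMap_isUnit (algebraMap A Ar t)
      have hu2 : IsUnit (f' r₀) := by
        simp only [r₀, map_mul, IsUnit.mul_iff]
        exact ⟨hut2, huA.1.1.map (algebraMap Ar N'), huA.1.2.map (algebraMap Ar N')⟩
      let k : N →+* N' := IsLocalization.Away.lift r₀ hu2
      have hk : k.comp (algebraMap A N) = f' := IsLocalization.Away.lift_comp r₀ hu2
      have hkc : k.comp βh.toRingHom = k.comp βv.toRingHom := hc k (by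
        rw [← RingHom.comp_apply, hk, map_mul, map_pow]
        exact (huA.2.map (algebraMap Ar N')).mul (hut2.pow i₂))
      have hks : k.comp kNs = (algebraMap Ar N').comp kAs :=
        IsLocalization.ringHom_ext (Submonoid.powers s) (by
          rw [RingHom.comp_assoc, hkNs, hk, RingHom.comp_assoc, hkAs])
      have hkt2 : (k.comp kNt).comp (algebraMap A Nt) = f' := by rw [RingHom.comp_assoc, hkNt, hk]
      let σ := Spec.map (CommRingCat.ofHom (algebraMap Ar N'))
      have hσ : σ ≫ vr = (Spec.map (CommRingCat.ofHom (k.comp kNt)) ≫ kt) ≫ h := by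
        have e1 : σ ≫ vr = Spec.map (CommRingCat.ofHom (k.comp βv.toRingHom)) ≫ hVY.fromSpec := by
          simp only [σ, vr]
          rw [← Category.assoc, ← Spec.map_comp, ← CommRingCat.ofHom_comp, ← RingHom.comp_assoc, ← hks]

        rw [e1, ← hkc, CommRingCat.ofHom_comp, Spec.map_comp, Category.assoc, ← hβh,
          CommRingCat.ofHom_comp, Spec.map_comp]
        simp only [mh, Category.assoc]
      have hσr : Set.range σ = (D : Set (Spec (CommRingCat.of Ar))) := by
        show Set.range (PrimeSpectrum.comap (algebraMap Ar N')) = _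
        exact PrimeSpectrum.localization_away_comap_range N' (algebraMap A Ar t)
      let DQ := Q.ι ⁻¹ᵁ D
      have hDQ : Set.range (DQ.ι ≫ Q.ι) ⊆ Set.range σ := by
        rw [hσr]
        rintro _ ⟨z, rfl⟩
        exact z.2
      let l := IsOpenImmersion.lift σ (DQ.ι ≫ Q.ι) hDQ
      have hl : l ≫ σ = DQ.ι ≫ Q.ι := IsOpenImmersion.lift_fac _ _ _
      rw [← Category.assoc, ← hl, Category.assoc, hσ, ← Category.assoc, ← Category.assoc]
      refine Eq.trans (congrArg (· ≫ h) ?_) (Category.assoc _ _ _)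
      rw [← cancel_mono U.ι, Category.assoc, Category.assoc, Category.assoc, hkt, morphismRestrict_ι,
        ← Category.assoc DQ.ι, ← hl]
      simp only [ut, μ, σ, Category.assoc]
      rw [← Category.assoc (Spec.map _), ← Spec.map_comp, ← CommRingCat.ofHom_comp, hkt2,
        ← Category.assoc (Spec.map _) (Spec.map _), ← Spec.map_comp, ← CommRingCat.ofHom_comp]
  refine ⟨μ.opensRange, μ.isoOpensRange.inv ≫ vr, hp, ?_, ?_⟩
  · rw [Category.assoc, hvr, ← Category.assoc, Scheme.Hom.isoOpensRange_inv_comp]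
  · let a := X.homOfLE (inf_le_right : U ⊓ μ.opensRange ≤ μ.opensRange) ≫ μ.isoOpensRange.inv
    let b := X.homOfLE (inf_le_left : U ⊓ μ.opensRange ≤ U)
    have hab : b ≫ U.ι = a ≫ μ := by
      simp [a, b, Scheme.Hom.isoOpensRange_inv_comp]
    have hr' : Set.range a ⊆ Set.range Q.ι := mem_preimage_of_comp a μ U b hab
    let l := IsOpenImmersion.lift Q.ι a hr'
    have hl : l ≫ Q.ι = a := IsOpenImmersion.lift_fac _ _ _
    have hlb : l ≫ (μ ∣_ U) = b := by
      rw [← cancel_mono U.ι, Category.assoc, morphismRestrict_ι, hab, ← hl, Category.assoc]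
    show X.homOfLE _ ≫ μ.isoOpensRange.inv ≫ vr = b ≫ h
    rw [← Category.assoc, show X.homOfLE _ ≫ μ.isoOpensRange.inv = a from rfl, ← hl, Category.assoc,
      hQ, ← Category.assoc, hlb]

end Groth.Agent.Rat23
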