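import Mathlib.RingTheory.Localization.Away.Basic
import Mathlib.RingTheory.Localization.AtPrime.Basic
import Mathlib.RingTheory.Localization.Integer
import Mathlib.RingTheory.FinitePresentation
import Mathlib.RingTheory.Spectrum.Prime.Topology

/-!
# Homomorphisms into a localization come from a neighbourhood
-/

set_option autoImplicit false

universe u

namespace Groth.Agent.Rat23

variable {A : Type u} [CommRing A]

/-- An element of `A_r` vanishing in a localization is killed by a denominator. -/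
theorem exists_mul_eq_zero (M : Submonoid A) {L : Type u} [CommRing L] [Algebra A L]
    [IsLocalization M L] (r : A) {N : Type u} [CommRing N] [Algebra A N] [IsLocalization.Away r N]
    (g : N →ₐ[A] L) (x : N) (hx : g x = 0) : ∃ c ∈ M, algebraMap A N c * x = 0 := by
  obtain ⟨⟨a, d⟩, e⟩ := IsLocalization.surj (Submonoid.powers r) x
  have h1 : algebraMap A L a = 0 := by
    rw [← g.commutes, ← e, map_mul, hx, zero_mul]
  obtain ⟨⟨c, hc⟩, hca⟩ := (IsLocalization.map_eq_zero_iff M L a).1 h1
  refine ⟨c, hc, (IsLocalization.map_units N d).mul_left_eq_zero.1 ?_⟩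
  rw [mul_assoc, e, ← map_mul, hca, map_zero]

/-- A homomorphism of a finitely presented algebra into a local ring of a prime comes from a
principal open neighbourhood of the prime. -/
theorem exists_lift_away {R B : Type u} [CommRing R] [CommRing B] [Algebra R B]
    [Algebra.FinitePresentation R B] [Algebra R A] (p : Ideal A) [p.IsPrime] {O : Type u}
    [CommRing O] [Algebra A O] [IsLocalization.AtPrime O p] [Algebra R O] [IsScalarTower R A O]
    (φ : B →ₐ[R] O) :
    ∃ (s : A) (_ : s ∉ p) (ψ : B →ₐ[R] Localization.Away s) (g : Localization.Away s →ₐ[A] O),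
      ∀ b, g (ψ b) = φ b := by
  classical
  obtain ⟨n, f, hf, hker⟩ := Algebra.FinitePresentation.out (R := R) (A := B)
  obtain ⟨G, hG⟩ := hker
  obtain ⟨⟨s₀, hs₀⟩, hint⟩ := IsLocalization.exist_integer_multiples_of_finite (M := p.primeCompl)
    (fun i => φ (f (MvPolynomial.X i)))
  choose a ha using hint
  let N₀ := Localization.Away s₀
  let g₀ : N₀ →ₐ[A] O :=
    { IsLocalization.Away.lift (S := N₀) s₀ (g := algebraMap A O)
        (IsLocalization.map_units O (⟨s₀, hs₀⟩ : p.primeCompl)) with
      commutes' := fun x => IsLocalization.Away.lift_eq s₀ _ x }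
  let e₀ : Fin n → N₀ := fun i => algebraMap A N₀ (a i) * IsLocalization.Away.invSelf s₀
  have he₀ : ∀ i, g₀ (e₀ i) = φ (f (MvPolynomial.X i)) := fun i => by
    refine (IsLocalization.map_units O (⟨s₀, hs₀⟩ : p.primeCompl)).mul_right_cancel ?_
    show g₀ (e₀ i) * algebraMap A O s₀ = _
    rw [← g₀.commutes s₀, ← map_mul, mul_assoc,
      mul_comm (IsLocalization.Away.invSelf s₀) (algebraMap A N₀ s₀),
      IsLocalization.Away.mul_invSelf, mul_one, g₀.commutes, ha, Algebra.smul_def, mul_comm]
    rw [g₀.commutes]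
  let P₀ : MvPolynomial (Fin n) R →ₐ[R] N₀ := MvPolynomial.aeval e₀
  have hP₀ : (g₀.restrictScalars R).comp P₀ = φ.comp f := MvPolynomial.algHom_ext fun i => by
    rw [AlgHom.comp_apply, AlgHom.comp_apply, MvPolynomial.aeval_X]
    exact he₀ i
  have hc : ∀ q ∈ G, ∃ c ∈ p.primeCompl, algebraMap A N₀ c * P₀ q = 0 := fun q hq => by
    refine exists_mul_eq_zero p.primeCompl s₀ g₀ _ ?_
    have h1 : f q = 0 := by
      have : q ∈ RingHom.ker f := hG ▸ Ideal.subset_span hq
      exact this
    exact (AlgHom.congr_fun hP₀ q).trans (by rw [AlgHom.comp_apply, h1, map_zero])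
  choose c hc hcq using hc
  let C : A := ∏ q ∈ G.attach, c q.1 q.2
  have hC : C ∈ p.primeCompl := prod_mem fun q _ => hc q.1 q.2
  have hs : s₀ * C ∉ p := fun h => (Ideal.IsPrime.mem_or_mem ‹_› h).elim hs₀ hC
  let N := Localization.Away (s₀ * C)
  have hu : IsUnit (algebraMap A N (s₀ * C)) := IsLocalization.Away.algebraMap_isUnit _
  rw [map_mul, IsUnit.mul_iff] at hu
  let k : N₀ →ₐ[A] N :=
    { IsLocalization.Away.lift (S := N₀) s₀ (g := algebraMap A N) hu.1 with
      commutes' := fun x => IsLocalization.Away.lift_eq s₀ _ x }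
  let g : N →ₐ[A] O :=
    { IsLocalization.Away.lift (S := N) (s₀ * C) (g := algebraMap A O)
        (IsLocalization.map_units O (⟨s₀ * C, hs⟩ : p.primeCompl)) with
      commutes' := fun x => IsLocalization.Away.lift_eq (s₀ * C) _ x }
  have hgk : g.comp k = g₀ := IsLocalization.algHom_ext (Submonoid.powers s₀) (Subsingleton.elim _ _)
  let P : MvPolynomial (Fin n) R →ₐ[R] N := (k.restrictScalars R).comp P₀
  have hP : RingHom.ker f ≤ RingHom.ker P := by
    rw [show RingHom.ker f = Ideal.span (G : Set (MvPolynomial (Fin n) R)) from hG.symm, Ideal.span_le]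
    intro q hq
    show k (P₀ q) = 0
    refine hu.2.mul_right_eq_zero.1 ?_
    rw [← k.commutes C, ← map_mul]
    obtain ⟨d, hd⟩ := Finset.dvd_prod_of_mem (fun q : {q // q ∈ G} => c q.1 q.2)
      (Finset.mem_attach G ⟨q, hq⟩)
    have h2 : algebraMap A N₀ C = algebraMap A N₀ (c q hq) * algebraMap A N₀ d :=
      (congrArg (algebraMap A N₀) hd).trans (map_mul _ _ _)
    show k (algebraMap A N₀ C * P₀ q) = 0
    rw [h2, mul_right_comm, hcq, zero_mul, map_zero]
  let ψ : B →ₐ[R] N := (Ideal.Quotient.liftₐ _ P fun x hx => hP hx).comp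
    (Ideal.quotientKerAlgEquivOfSurjective hf).symm.toAlgHom
  refine ⟨s₀ * C, hs, ψ, g, fun b => ?_⟩
  obtain ⟨q, rfl⟩ := hf b
  have hψ : ψ (f q) = P q := by
    show Ideal.Quotient.liftₐ _ P (fun x hx => hP hx)
      ((Ideal.quotientKerAlgEquivOfSurjective hf).symm (f q)) = _
    rw [show f q = Ideal.quotientKerAlgEquivOfSurjective hf (Ideal.Quotient.mk _ q) from rfl,
      AlgEquiv.symm_apply_apply]
    rfl
  rw [hψ]
  exact (AlgHom.congr_fun hgk (P₀ q)).trans (AlgHom.congr_fun hP₀ q)

/-- Two homomorphisms of a finite type algebra into `A_r` equal in a localization agree after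
multiplication by a denominator. -/
theorem exists_forall_mul_sub_eq_zero {R B : Type u} [CommRing R] [CommRing B] [Algebra R B]
    [Algebra.FiniteType R B] [Algebra R A] (M : Submonoid A) {L : Type u} [CommRing L] [Algebra A L]
    [IsLocalization M L] (r : A) {N : Type u} [CommRing N] [Algebra A N] [IsLocalization.Away r N]
    [Algebra R N] (g : N →ₐ[A] L) (β₁ β₂ : B →ₐ[R] N) (h : ∀ b, g (β₁ b) = g (β₂ b)) :
    ∃ c ∈ M, ∀ {N' : Type u} [CommRing N'] (k : N →+* N'),
      IsUnit (k (algebraMap A N c)) → k.comp β₁.toRingHom = k.comp β₂.toRingHom := by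
  classical
  obtain ⟨S, hS⟩ := ‹Algebra.FiniteType R B›.out
  have hc : ∀ b : B, ∃ c ∈ M, algebraMap A N c * (β₁ b - β₂ b) = 0 := fun b =>
    exists_mul_eq_zero M r g _ (by rw [map_sub, h, sub_self])
  choose c hc hcb using hc
  refine ⟨∏ b ∈ S, c b, prod_mem fun b _ => hc b, fun {N'} _ k hk => ?_⟩
  let E : Subalgebra R B :=
    { carrier := {b | k (β₁ b) = k (β₂ b)}
      mul_mem' := fun {a b} ha hb => by
        show k (β₁ (a * b)) = k (β₂ (a * b))
        rw [map_mul, map_mul, map_mul, map_mul, show k (β₁ a) = _ from ha, show k (β₁ b) = _ from hb]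
      add_mem' := fun {a b} ha hb => by
        show k (β₁ (a + b)) = k (β₂ (a + b))
        rw [map_add, map_add, map_add, map_add, show k (β₁ a) = _ from ha, show k (β₁ b) = _ from hb]
      algebraMap_mem' := fun x => by
        show k (β₁ _) = k (β₂ _)
        rw [β₁.commutes, β₂.commutes] }
  have hE : E = ⊤ := by
    rw [eq_top_iff, ← hS, Algebra.adjoin_le_iff]
    intro b hb
    show k (β₁ b) = k (β₂ b)
    rw [← sub_eq_zero, ← map_sub]
    refine hk.mul_right_eq_zero.1 ?_
    obtain ⟨d, hd⟩ := Finset.dvd_prod_of_mem c hb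
    rw [← map_mul, hd, map_mul (algebraMap A N), mul_right_comm, hcb, zero_mul, map_zero]
  refine RingHom.ext fun b => ?_
  show k (β₁ b) = k (β₂ b)
  exact (show b ∈ E from hE ▸ Algebra.mem_top)

/-- An open of `Spec A_t` containing all primes of a localization contains a principal open with
a denominator. -/
theorem exists_forall_mem_of_localization (M : Submonoid A) {L : Type u} [CommRing L] [Algebra A L]
    [IsLocalization M L] {N : Type u} [CommRing N] [Algebra A N] (t : A) [IsLocalization.Away t N]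
    (g : N →+* L) (hg : g.comp (algebraMap A N) = algebraMap A L) (E : Set (PrimeSpectrum N))
    (hE : IsOpen E) (h : ∀ q : PrimeSpectrum L, PrimeSpectrum.comap g q ∈ E) :
    ∃ c ∈ M, ∀ q : PrimeSpectrum N, algebraMap A N c ∉ q.asIdeal → q ∈ E := by
  obtain ⟨s, hs⟩ := (PrimeSpectrum.isClosed_iff_zeroLocus _).1 hE.isClosed_compl
  rw [← PrimeSpectrum.zeroLocus_span] at hs
  have htop : ((Ideal.span s).comap (algebraMap A N)).map (algebraMap A L) = ⊤ := by
    rw [← hg, ← Ideal.map_map, IsLocalization.map_comap (Submonoid.powers t) N]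
    by_contra hne
    obtain ⟨m, hm, hle⟩ := Ideal.exists_le_maximal _ hne
    have h1 : PrimeSpectrum.comap g ⟨m, hm.isPrime⟩ ∈ Eᶜ := by
      rw [hs, PrimeSpectrum.mem_zeroLocus]
      exact Ideal.map_le_iff_le_comap.1 hle
    exact h1 (h _)
  obtain ⟨c, hcM, hcJ⟩ : ∃ c ∈ M, c ∈ (Ideal.span s).comap (algebraMap A N) := by
    by_contra! hno
    exact (IsLocalization.map_algebraMap_ne_top_iff_disjoint M L _).2
      (Set.disjoint_left.2 fun c hcM hcJ => hno c hcM hcJ) htop
  refine ⟨c, hcM, fun q hq => ?_⟩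
  by_contra hqE
  have h2 : q ∈ Eᶜ := hqE
  rw [hs, PrimeSpectrum.mem_zeroLocus] at h2
  exact hq (h2 hcJ)

end Groth.Agent.Rat23
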